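import Cfsg.Agent.Omega.TwoF.HN5.Rel
import Cfsg.Agent.HN.H0Basic
import Cfsg.Agent.Omega.Lie.HeisCover

set_option autoImplicit false

/-!
# TABLE 2F, row `HN`: an extraspecial group of order `5^5` in the Harada–Norton group (helper473)
-/

namespace Cfsg.Agent.Omega.TwoF.RowHN

open Cfsg.Agent.HN Cfsg.Agent.HN.Pres Cfsg.Agent.HN.P1408 Cfsg.Agent.HN.H0Basic
open Cfsg.Agent.Omega.Lie.Heis
open Cfsg.Agent.Lib.PackMatGroup (evG evG_append evG_cons evG_nil)

/-- the map from `H0` -/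
def psi : H0 →* Cfsg.Spor.HN := lift rels_HN

theorem psi_x : psi gx = Pres.hx := lift_gx _
theorem psi_y : psi gy = Pres.hy := lift_gy _
theorem psi_z : psi gz = Pres.hz := lift_gz _

theorem t5 : ht ^ 5 = 1 := mk_extra (by simp [Cfsg.Spor.HN.extra])
theorem xt : (hx⁻¹ * ht * hx) * ht ^ 2 = 1 := mk_extra (by simp [Cfsg.Spor.HN.extra])
theorem ty : ht⁻¹ * hy⁻¹ * ht * hy = 1 := mk_extra (by simp [Cfsg.Spor.HN.extra])

/-- a word of `H0` in `HN` -/
def pw (a : List ℕ) : Cfsg.Spor.HN := psi (hw a)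

theorem pw_append (a c : List ℕ) : pw (a ++ c) = pw a * pw c := by rw [pw, hw_append, map_mul]; rfl
theorem pw_nil : pw [] = 1 := by rw [pw, hw_nil, map_one]
theorem pw_eq {a c : List ℕ} (h : eqw a c = true) : pw a = pw c := congrArg psi (hw_eq h)
theorem pw_iw (a : List ℕ) : pw (iw a) = (pw a)⁻¹ := by rw [pw, hw_iw, map_inv]; rfl

theorem pw_pow (a : List ℕ) (n : ℕ) : pw (List.replicate n a).flatten = pw a ^ n := by
  induction n with
  | zero => rw [List.replicate_zero, List.flatten_nil, pw_nil, pow_zero]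
  | succ n ih => rw [List.replicate_succ, List.flatten_cons, pw_append, ih, pow_succ']

/-- the exponent by which a word in `x`, `y` acts on `t` -/
def ex : List ℕ → ℕ
  | [] => 1
  | l :: a => (if l = 0 then 3 else if l = 1 then 2 else if l = 2 then 1 else if l = 3 then 1 else 0) * ex a % 5

theorem conj_letter {l : ℕ} (hl : l < 4) :
    (pw [l])⁻¹ * ht * pw [l] = ht ^ (if l = 0 then 3 else if l = 1 then 2 else if l = 2 then 1 else if l = 3 then 1 else 0) := by
  have hx1 : hx⁻¹ * ht * hx = ht ^ 3 := by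
    have h1 := xt
    rw [← eq_mul_inv_iff_mul_eq, one_mul] at h1
    rw [h1, inv_eq_iff_mul_eq_one, ← pow_add]
    exact t5
  have hy1 : hy⁻¹ * ht * hy = ht := by
    have h1 := ty
    rw [mul_assoc, mul_assoc, inv_mul_eq_one] at h1
    rw [mul_assoc]
    exact h1.symm
  have e : ∀ l, pw [l] = letG hx hy hz l := by
    intro l
    rw [pw, hw, ev_cons, ev_nil, mul_one, map_letG, psi_x, psi_y, psi_z]
  rw [e]
  have h0 : l = 0 ∨ l = 1 ∨ l = 2 ∨ l = 3 := by omega
  rcases h0 with rfl | rfl | rfl | rfl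
  · exact hx1
  · change hx⁻¹⁻¹ * ht * hx⁻¹ = ht ^ 2
    rw [inv_inv]
    have h1 : hx⁻¹ * ht ^ 2 * hx = ht := by
      have h2 : hx⁻¹ * ht ^ 2 * hx = (hx⁻¹ * ht * hx) ^ 2 := by rw [pow_two, pow_two]; group
      rw [h2, hx1, ← pow_mul]
      change ht ^ 6 = ht
      rw [pow_succ, t5, one_mul]
    have h3 : ht = hx * (hx⁻¹ * ht * hx) * hx⁻¹ := by group
    calc hx * ht * hx⁻¹ = hx * (hx⁻¹ * ht ^ 2 * hx) * hx⁻¹ := by rw [h1]
      _ = ht ^ 2 := by group
  · change hy⁻¹ * ht * hy = ht ^ 1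
    rw [pow_one, hy1]
  · change hy⁻¹⁻¹ * ht * hy⁻¹ = ht ^ 1
    rw [inv_inv, pow_one]
    calc hy * ht * hy⁻¹ = hy * (hy⁻¹ * ht * hy) * hy⁻¹ := by rw [hy1]
      _ = ht := by group

theorem conj_word (a : List ℕ) (ha : ∀ l ∈ a, l < 4) : (pw a)⁻¹ * ht * pw a = ht ^ ex a := by
  induction a with
  | nil => rw [pw_nil, ex, inv_one, one_mul, mul_one, pow_one]
  | cons l a ih =>
    have h1 : pw (l :: a) = pw [l] * pw a := pw_append [l] a
    have h2 := conj_letter (ha l (List.mem_cons_self ..))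
    have h3 := ih fun m hm => ha m (List.mem_cons_of_mem _ hm)
    rw [h1]
    set k := (if l = 0 then 3 else if l = 1 then 2 else if l = 2 then 1 else if l = 3 then 1 else 0) with hk
    calc (pw [l] * pw a)⁻¹ * ht * (pw [l] * pw a) = (pw a)⁻¹ * ((pw [l])⁻¹ * ht * pw [l]) * pw a := by group
      _ = (pw a)⁻¹ * ht ^ k * pw a := by rw [h2]
      _ = ((pw a)⁻¹ * ht * pw a) ^ k := by
          have : (pw a)⁻¹ * ht * pw a = (pw a)⁻¹ * ht * (pw a)⁻¹⁻¹ := by rw [inv_inv]
          rw [this, conj_pow, inv_inv]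
      _ = (ht ^ ex a) ^ k := by rw [h3]
      _ = ht ^ (k * ex a) := by rw [← pow_mul, mul_comm]
      _ = ht ^ ex (l :: a) := by
          rw [ex, ← hk]
          conv_lhs => rw [← Nat.mod_add_div (k * ex a) 5, pow_add, pow_mul ht 5, t5, one_pow, mul_one]

theorem comm_t {a : List ℕ} (ha : (a.all fun l => decide (l < 4)) = true) (h : ex a = 1) : pw a * ht = ht * pw a := by
  have h1 := conj_word a (fun l hl => of_decide_eq_true (List.all_eq_true.1 ha l hl))
  rw [h, pow_one, mul_assoc, inv_mul_eq_iff_eq_mul] at h1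
  exact h1.symm

/-! ### the words -/

/-- the word `x₂` -/
def wx : List ℕ := [3, 0, 2, 0, 2, 0, 3, 3, 0]
/-- the word `y₂` -/
def wy : List ℕ := [0, 3, 3, 0, 3, 0, 0]
/-- `h z₀ h⁻¹` -/
def wzh : List ℕ := [2, 0, 2, 0, 2, 2, 0, 3, 3, 0, 3, 0, 3, 0, 2, 0, 2, 0, 2, 2, 2, 0, 2, 0, 2, 0, 0]
/-- `h x₂ h⁻¹` -/
def wxh : List ℕ := [2, 2, 0, 2, 2, 2, 0, 3, 0, 3, 0, 3, 3, 0, 3, 0, 3, 3, 0, 0]

theorem k1 : eqw (List.replicate 5 wz).flatten [] = true := by decide +kernel
theorem k2 : eqw (List.replicate 5 wx).flatten [] = true := by decide +kernel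
theorem k3 : eqw (wz ++ wx) (wx ++ wz) = true := by decide +kernel
theorem k4 : eqw (wz ++ wy) (wy ++ wz) = true := by decide +kernel
theorem k5 : eqw (wy ++ wx) (wx ++ wz ++ wy) = true := by decide +kernel
theorem k6 : eqw (wh ++ wz) (wzh ++ wh) = true := by decide +kernel
theorem k7 : eqw (wh ++ wx) (wxh ++ wh) = true := by decide +kernel

/-- the element `s = h⁻¹ t h` -/
def sE : Cfsg.Spor.HN := (pw wh)⁻¹ * ht * pw wh

theorem tz : ht * pw wz = pw wz * ht := (comm_t (by decide) (by decide)).symm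
theorem tx : ht * pw wx = pw wx * ht := (comm_t (by decide) (by decide)).symm
theorem tY : ht * pw wy = pw wy * ht := (comm_t (by decide) (by decide)).symm

theorem s_comm {a c : List ℕ} (h1 : pw wh * pw a = pw c * pw wh) (h2 : ht * pw c = pw c * ht) :
    sE * pw a = pw a * sE := by
  have h3 : pw a = (pw wh)⁻¹ * pw c * pw wh := by rw [mul_assoc, ← h1]; group
  rw [h3, sE]
  calc (pw wh)⁻¹ * ht * pw wh * ((pw wh)⁻¹ * pw c * pw wh) = (pw wh)⁻¹ * (ht * pw c) * pw wh := by group
    _ = (pw wh)⁻¹ * (pw c * ht) * pw wh := by rw [h2]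
    _ = _ := by group

theorem sz : sE * pw wz = pw wz * sE :=
  s_comm (c := wzh) (by rw [← pw_append, ← pw_append]; exact pw_eq k6) (comm_t (by decide) (by decide)).symm
theorem sx : sE * pw wx = pw wx * sE :=
  s_comm (c := wxh) (by rw [← pw_append, ← pw_append]; exact pw_eq k7) (comm_t (by decide) (by decide)).symm

/-- words in the letters `x`, `y`, `z` -/
theorem evG_gens (a : List ℕ) (ha : ∀ l ∈ a, l < 5) : evG Rep.gens a = pw a := by
  induction a with
  | nil => rw [evG_nil, pw_nil]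
  | cons l a ih =>
    have h1 : pw (l :: a) = pw [l] * pw a := pw_append [l] a
    rw [evG_cons, ih fun m hm => ha m (List.mem_cons_of_mem _ hm), h1]
    congr 1
    have h2 := ha l (List.mem_cons_self ..)
    rw [pw, hw, ev_cons, ev_nil, mul_one, map_letG, psi_x, psi_y, psi_z]
    have h0 : l = 0 ∨ l = 1 ∨ l = 2 ∨ l = 3 ∨ l = 4 := by omega
    rcases h0 with rfl | rfl | rfl | rfl | rfl <;> rfl

theorem st (hs : IsSimpleGroup Cfsg.Spor.HN) : sE * ht * sE⁻¹ = ht * pw wz := by
  have h1 := rel hs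
  have e6 : evG Rep.gens [6] = ht := by rw [evG_cons, evG_nil, mul_one]; rfl
  have e7 : evG Rep.gens [7] = ht⁻¹ := by rw [evG_cons, evG_nil, mul_one]; rfl
  have eh : evG Rep.gens wh = pw wh := evG_gens _ (by decide)
  have ei : evG Rep.gens whi = (pw wh)⁻¹ := by
    rw [evG_gens _ (by decide), ← pw_iw]
    exact pw_eq (by decide +kernel)
  have ez : evG Rep.gens wzi = (pw wz)⁻¹ := by
    rw [evG_gens _ (by decide), ← pw_iw]
    rfl
  rw [wr, evG_append, evG_append, evG_append, evG_append, evG_append, evG_append, evG_append, evG_append, e6, e7, eh,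
    ei, ez] at h1
  have h2 : sE * ht * sE⁻¹ * ht⁻¹ * (pw wz)⁻¹ = 1 := by
    rw [← h1, sE]; group
  rw [mul_inv_eq_one, mul_inv_eq_iff_eq_mul] at h2
  rw [h2, tz]

theorem z_ne' : pw wz ≠ 1 := by
  rw [← evG_gens wz (by decide)]
  exact z_ne

/-- **the Heisenberg configuration** -/
theorem heis (hs : IsSimpleGroup Cfsg.Spor.HN) : Heis 5 2 (pw wz) ![ht, pw wx] ![sE, pw wy] where
  prime := by norm_num
  zr := by rw [← pw_pow, pw_eq k1, pw_nil]
  xr := by
    intro i
    fin_cases i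
    · exact t5
    · change pw wx ^ 5 = 1
      rw [← pw_pow, pw_eq k2, pw_nil]
  zx := by
    intro i
    fin_cases i
    · exact tz.symm
    · change pw wz * pw wx = pw wx * pw wz
      rw [← pw_append, ← pw_append]
      exact pw_eq k3
  zy := by
    intro i
    fin_cases i
    · exact sz.symm
    · change pw wz * pw wy = pw wy * pw wz
      rw [← pw_append, ← pw_append]
      exact pw_eq k4
  xx := by
    intro i j
    fin_cases i <;> fin_cases j
    · rfl
    · exact tx
    · exact tx.symm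
    · rfl
  yx := by
    intro i j h
    fin_cases i <;> fin_cases j
    · exact absurd rfl h
    · exact sx
    · exact tY.symm
    · exact absurd rfl h
  conj := by
    intro i
    fin_cases i
    · exact st hs
    · change pw wy * pw wx * (pw wy)⁻¹ = pw wx * pw wz
      rw [mul_inv_eq_iff_eq_mul, ← pw_append, ← pw_append, ← pw_append]
      exact pw_eq k5

end Cfsg.Agent.Omega.TwoF.RowHN
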