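import Cfsg.Agent.HN.Rep

set_option autoImplicit false

/-!
# TABLE 2F, row `HN`: one relation in the Harada–Norton group (helper473)

`s t s⁻¹ t⁻¹ = z₀`, `s = h⁻¹ t h`, `h = z y z y x⁻¹ y z`, `z₀ ∈ ⟨x, y⟩`, checked in the 133-dimensional representation.
-/

namespace Cfsg.Agent.Omega.TwoF.RowHN

open Cfsg.Agent.Lib.PackMat Cfsg.Agent.Lib.PackMatGroup Cfsg.Agent.HN.RepData
open Cfsg.Agent.HN.Rep (L LG gens rho good one_lt codes rho_word)

/-- the word `h` -/
def wh : List ℕ := [4, 2, 4, 2, 1, 2, 4]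
/-- the word `h⁻¹` -/
def whi : List ℕ := [4, 3, 0, 3, 4, 3, 4]
/-- the word `z₀` -/
def wz : List ℕ := [0, 2, 2, 0, 2, 0, 2, 0, 3, 0, 3, 3, 0, 3, 0, 3, 0, 2]
/-- the word `z₀⁻¹` -/
def wzi : List ℕ := [3, 1, 2, 1, 2, 1, 2, 2, 1, 2, 1, 3, 1, 3, 1, 3, 3, 1]
/-- the relator -/
def wr : List ℕ := whi ++ [6] ++ wh ++ [6] ++ whi ++ [7] ++ wh ++ [7] ++ wzi

theorem c0 : checkScalar C (cw L wr) 1 0 19 = true := by decide +kernel
theorem c1 : checkScalar C (cw L wr) 1 19 19 = true := by decide +kernel
theorem c2 : checkScalar C (cw L wr) 1 38 19 = true := by decide +kernel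
theorem c3 : checkScalar C (cw L wr) 1 57 19 = true := by decide +kernel
theorem c4 : checkScalar C (cw L wr) 1 76 19 = true := by decide +kernel
theorem c5 : checkScalar C (cw L wr) 1 95 19 = true := by decide +kernel
theorem c6 : checkScalar C (cw L wr) 1 114 19 = true := by decide +kernel

theorem relM : evG LG wr = 1 := by
  refine eq_one_of_rows good one_lt codes (by decide) fun i hi => ?_
  have hi' : i < 133 := hi
  rcases lt_or_ge i 19 with h0 | h0
  · exact checkScalar_spec c0 i (Nat.zero_le _) h0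
  rcases lt_or_ge i 38 with h1 | h1
  · exact checkScalar_spec c1 i h0 h1
  rcases lt_or_ge i 57 with h2 | h2
  · exact checkScalar_spec c2 i h1 h2
  rcases lt_or_ge i 76 with h3 | h3
  · exact checkScalar_spec c3 i h2 h3
  rcases lt_or_ge i 95 with h4 | h4
  · exact checkScalar_spec c4 i h3 h4
  rcases lt_or_ge i 114 with h5 | h5
  · exact checkScalar_spec c5 i h4 h5
  exact checkScalar_spec c6 i h5 (by omega)

theorem z_neM : evG LG wz ≠ 1 := by
  refine ne_of_row good codes (w₂ := []) (by decide) (by decide) (R := unitRow C 1 0)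
    (unitRow_ok (C := C) (c := 1) (i := 0) (good_of_check good) one_lt (by decide)).1 ?_
  intro h
  have h1 : Nat.beq (run C (cw L wz) (unitRow C 1 0)) (run C (cw L []) (unitRow C 1 0)) = false := by decide +kernel
  rw [h, Nat.beq_refl] at h1
  exact absurd h1 (by simp)

/-- the representation is faithful -/
theorem rho_injective (hs : IsSimpleGroup Cfsg.Spor.HN) : Function.Injective rho := by
  rw [← MonoidHom.ker_eq_bot_iff]
  rcases (inferInstance : rho.ker.Normal).eq_bot_or_eq_top with h | h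
  · exact h
  · exfalso
    apply z_neM
    rw [← rho_word, ← MonoidHom.mem_ker, h]
    exact Subgroup.mem_top _

/-- the relation -/
theorem rel (hs : IsSimpleGroup Cfsg.Spor.HN) : evG gens wr = 1 := by
  apply rho_injective hs
  rw [rho_word, relM, map_one]

theorem z_ne : evG gens wz ≠ 1 := by
  intro h
  apply z_neM
  rw [← rho_word, h, map_one]

end Cfsg.Agent.Omega.TwoF.RowHN
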